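import Cfsg.Agent.GammaTwo.Rows
import Cfsg.Agent.S1152
import Cfsg.Agent.S1157
import Cfsg.Agent.CpQuot.Congr
import Cfsg.Agent.ClassicalGeometry.PSL2Basic

/-!
# The Ree groups are not of even type
-/

set_option autoImplicit false

namespace Cfsg.Agent.GammaTwo.Ree

open Cfsg
open scoped commutatorElement

universe u

/-- a nonabelian simple group is quasisimple with trivial centre -/
theorem qs_of_simple {A : Type*} [Group A] (hs : IsSimpleGroup A) (hnc : ∃ a b : A, a * b ≠ b * a) :
    IsQuasisimple A ∧ Subgroup.center A = ⊥ := by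
  obtain ⟨x, y, hxy⟩ := hnc
  have hc : Subgroup.center A = ⊥ := by
    rcases hs.eq_bot_or_eq_top_of_normal (Subgroup.center A) inferInstance with h | h
    · exact h
    · exfalso
      apply hxy
      have : y ∈ Subgroup.center A := by rw [h]; exact Subgroup.mem_top y
      exact (Subgroup.mem_center_iff.mp this x)
  refine ⟨⟨?_, ?_⟩, hc⟩
  · rw [Group.isPerfect_def]
    rcases hs.eq_bot_or_eq_top_of_normal (commutator A) inferInstance with h | h
    · exfalso
      apply hxy
      have : ⁅x, y⁆ ∈ commutator A := by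
        rw [_root_.commutator_def]
        exact Subgroup.commutator_mem_commutator (Subgroup.mem_top x) (Subgroup.mem_top y)
      rw [h, Subgroup.mem_bot, commutatorElement_eq_one_iff_mul_comm] at this
      exact this
    · exact h
  · have e : A ⧸ Subgroup.center A ≃* A :=
      (QuotientGroup.quotientMulEquivOfEq hc).trans QuotientGroup.quotientBot
    have : Nontrivial (A ⧸ Subgroup.center A) := e.toEquiv.nontrivial
    exact IsSimpleGroup.isSimpleGroup_of_surjective e.symm.toMonoidHom e.symm.surjective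

/-- `C_G(t) = Z × L` with `L` nonabelian simple and not on the `C_2` list: `G` is not of even type -/
theorem not_even {G : Type u} [Group G] [Finite G] (hE : IsOfEvenType G) {t : G} (ht : orderOf t = 2) {Z L : Type}
    [Group Z] [Group L] (hs : IsSimpleGroup L) (hnc : ∃ a b : L, a * b ≠ b * a)
    (e : Subgroup.centralizer ({t} : Set G) ≃* Z × L) (hcp : ∀ (L' : Type) [Group L'], (L' ≃* L) → ¬ IsCpSimple 2 L') :
    False := by
  obtain ⟨hA, hO, -⟩ := hE
  have hO' : pPrimeCore 2 ↥(Subgroup.centralizer ({t} : Set G)) = ⊥ := by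
    have h := hO t ht
    unfold centralizerPPrimeCore at h
    rwa [Subgroup.map_eq_bot_iff_of_injective _ (Subgroup.subtype_injective _)] at h
  obtain ⟨hqs, hcen⟩ := qs_of_simple hs hnc
  let N : Subgroup ↥(Subgroup.centralizer ({t} : Set G)) := ((MonoidHom.fst Z L).ker).comap e.toMonoidHom
  have hN : N.Normal := inferInstance
  let f : L →* ↥(Subgroup.centralizer ({t} : Set G)) := e.symm.toMonoidHom.comp (MonoidHom.inr Z L)
  have hf : Function.Injective f := by
    intro a b hab
    have h1 := e.symm.injective hab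
    exact (Prod.ext_iff.1 h1).2
  have hfN : f.range = N := by
    ext x
    constructor
    · rintro ⟨a, rfl⟩
      show (e (e.symm ((1 : Z), a))).1 = 1
      rw [e.apply_symm_apply]
    · intro hx
      have hx' : (e x).1 = 1 := hx
      refine ⟨(e x).2, ?_⟩
      show e.symm ((1 : Z), (e x).2) = x
      rw [← hx']
      exact e.symm_apply_apply x
  let π := QuotientGroup.mk' (pPrimeCore 2 ↥(Subgroup.centralizer ({t} : Set G)))
  have hπ : Function.Injective π := by
    rw [← MonoidHom.ker_eq_bot_iff, QuotientGroup.ker_mk']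
    exact hO'
  let K := N.map π
  have hK : K.Normal := hN.map π (QuotientGroup.mk'_surjective _)
  have hrange : (π.comp f).range = K := by
    rw [MonoidHom.range_comp, hfN]
  let eK : L ≃* ↥K := (MonoidHom.ofInjective (f := π.comp f) (hπ.comp hf)).trans
    (MulEquiv.subgroupCongr hrange)
  have hcomp : IsComponent K :=
    ⟨hK.isSubnormal, (CpQuot.Congr.isQuasisimple_iff eK).1 hqs⟩
  have hIn : InC 2 ↥K := hA t ht K hcomp
  have hIn' : InC 2 L := (CpQuot.Congr.inC_iff eK 2).2 hIn
  have e' : L ⧸ Subgroup.center L ≃* L :=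
    (QuotientGroup.quotientMulEquivOfEq hcen).trans QuotientGroup.quotientBot
  exact hcp _ e' hIn'.2.2.1

/-- the input of `notEv_ree` (`EvenType.ReeTwo.not_isCpSimple_two`) -/
def In : Prop := ∀ {F : Type} [Field F] [Fintype F] {m : ℕ}, 1 ≤ m → Fintype.card F = 3 ^ (2 * m + 1) →
  ∀ {L : Type} [Group L], (L ≃* Matrix.ProjectiveSpecialLinearGroup (Fin 2) F) → ¬ IsCpSimple 2 L

/-- **The Ree groups are not of even type.** -/
theorem notEv_ree (hX : In) : NotEv.{u} (fun X _ => Lie.IsoRee X) := by
  rintro G _ _ ⟨F, _, _, m, hm, hF, ⟨e⟩⟩ hE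
  obtain ⟨a, haH, ha1, ha2⟩ := Cfsg.Agent.S1157.exists_involution hF
  obtain ⟨⟨f⟩, -⟩ := Cfsg.Agent.S1152.result hF a haH ha1 ha2
  have hs : IsSimpleGroup (Matrix.ProjectiveSpecialLinearGroup (Fin 2) F) := by
    apply Matrix.ProjectiveSpecialLinearGroup.rank_two_simple
    rw [Nat.card_eq_fintype_card, hF]
    have : 3 ^ 3 ≤ 3 ^ (2 * m + 1) := Nat.pow_le_pow_right (by norm_num) (by omega)
    omega
  have hfinL : Finite (Matrix.ProjectiveSpecialLinearGroup (Fin 2) F) := Quotient.finite _
  have hodd : Odd (Fintype.card F) := by rw [hF]; exact Odd.pow (by decide)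
  have hcard : Nat.card (Matrix.ProjectiveSpecialLinearGroup (Fin 2) F) * 2 =
      (3 ^ (2 * m + 1)) * ((3 ^ (2 * m + 1)) ^ 2 - 1) := by
    rw [ClassicalGeometry.PSL2Basic.card_PSL2_odd F hodd, hF]
  have hnc : ∃ a b : Matrix.ProjectiveSpecialLinearGroup (Fin 2) F, a * b ≠ b * a := by
    by_contra hcon
    push Not at hcon
    let _ : CommGroup (Matrix.ProjectiveSpecialLinearGroup (Fin 2) F) :=
      { (inferInstance : Group (Matrix.ProjectiveSpecialLinearGroup (Fin 2) F)) with mul_comm := hcon }
    have hp : (Nat.card (Matrix.ProjectiveSpecialLinearGroup (Fin 2) F)).Prime := IsSimpleGroup.prime_card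
    have h27 : 27 ≤ 3 ^ (2 * m + 1) := by
      calc 27 = 3 ^ 3 := by norm_num
        _ ≤ 3 ^ (2 * m + 1) := Nat.pow_le_pow_right (by norm_num) (by omega)
    set q := 3 ^ (2 * m + 1) with hq
    obtain ⟨k, hk⟩ : ∃ k, q = 2 * k + 1 := by rw [← hF]; exact hodd
    have h1 : q ^ 2 - 1 = (4 * (k * (k + 1))) := by
      rw [hk]
      have : (2 * k + 1) ^ 2 = 4 * (k * (k + 1)) + 1 := by ring
      omega
    have h2 : Nat.card (Matrix.ProjectiveSpecialLinearGroup (Fin 2) F) = 2 * (q * (k * (k + 1))) := by
      rw [h1] at hcard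
      have : Nat.card (Matrix.ProjectiveSpecialLinearGroup (Fin 2) F) * 2 = (2 * (q * (k * (k + 1)))) * 2 := by
        rw [hcard]; ring
      omega
    have h3 : (2 : ℕ) ∣ Nat.card (Matrix.ProjectiveSpecialLinearGroup (Fin 2) F) := ⟨_, h2⟩
    have h4 := (Nat.prime_dvd_prime_iff_eq Nat.prime_two hp).1 h3
    rw [← h4] at h2
    have h5 : q * (k * (k + 1)) = 1 := by omega
    have h6 := Nat.eq_one_of_mul_eq_one_right h5
    omega
  -- transport to `G`
  have ht2 : e.symm a * e.symm a = 1 := by rw [← map_mul, ha2, map_one]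
  have ht1 : e.symm a ≠ 1 := fun h => ha1 (by rw [← e.apply_symm_apply a, h, map_one])
  have ht : orderOf (e.symm a) = 2 := orderOf_eq_prime (by rw [pow_two]; exact ht2) ht1
  have hmap : (Subgroup.centralizer ({e.symm a} : Set G)).map e.toMonoidHom =
      Subgroup.centralizer ({a} : Set ↥(Lie.twistedG2 F (3 ^ m))) := by
    ext x
    rw [Subgroup.mem_centralizer_singleton_iff]
    constructor
    · rintro ⟨y, hy, rfl⟩
      have hy' := Subgroup.mem_centralizer_singleton_iff.1 hy
      have h1 := congrArg e hy'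
      rw [map_mul, map_mul, e.apply_symm_apply] at h1
      exact h1
    · intro hx
      refine ⟨e.symm x, ?_, e.apply_symm_apply x⟩
      refine Subgroup.mem_centralizer_singleton_iff.2 ?_
      rw [← map_mul, ← map_mul, hx]
  let g : Subgroup.centralizer ({e.symm a} : Set G) ≃* Subgroup.centralizer ({a} : Set ↥(Lie.twistedG2 F (3 ^ m))) :=
    (e.subgroupMap _).trans (MulEquiv.subgroupCongr hmap)
  exact not_even hE ht hs hnc (g.trans f) fun L' _ e' => hX hm hF e'

end Cfsg.Agent.GammaTwo.Ree
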